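import Groth.Agent.Divis.AssRing
import Groth.Agent.Fdesc.AssPoints
import Mathlib.AlgebraicGeometry.Noetherian
import Mathlib.RingTheory.Ideal.AssociatedPrime.Finiteness

/-!
# Associated points of a Noetherian scheme

* `assPts F`: the points `w` such that the maximal ideal of `O_{F,w}` is associated.
* `finite_assPts`, `nonempty_assPts`;
* `isRegular_germ`: a function on an affine open which is a unit at all associated points of the open
  is a nonzerodivisor in all the local rings.
-/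

set_option autoImplicit false
universe u
open CategoryTheory CategoryTheory.Limits AlgebraicGeometry TopologicalSpace Opposite
open Groth.Agent.Divis.AssRing Groth.Agent.Fdesc.AssPoints

namespace Groth.Agent.GrpQ.H768.AssPts

/-- associated points of a scheme -/
def assPts (F : Scheme.{u}) : Set F :=
  {w | IsAssociatedPrime (IsLocalRing.maximalIdeal (F.presheaf.stalk w)) (F.presheaf.stalk w)}

variable {F : Scheme.{u}}

theorem finite_inter [IsLocallyNoetherian F] {A : F.Opens} (hA : IsAffineOpen A) :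
    (assPts F ∩ (A : Set F)).Finite := by
  have hN : IsNoetherianRing Γ(F, A) := IsLocallyNoetherian.component_noetherian ⟨A, hA⟩
  have h1 := associatedPrimes.finite Γ(F, A) Γ(F, A)
  have h2 : (Set.range (fun w : {w : A // (w : F) ∈ assPts F} => (w.1 : F))).Finite := by
    have h3 : Set.Finite {p : PrimeSpectrum Γ(F, A) | p.asIdeal ∈ associatedPrimes Γ(F, A) Γ(F, A)} := by
      refine Set.Finite.of_finite_image (f := PrimeSpectrum.asIdeal) (h1.subset ?_) ?_
      · rintro _ ⟨p, hp, rfl⟩; exact hp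
      · intro p _ q _ h; exact PrimeSpectrum.ext h
    have h4 : Finite {w : A // (w : F) ∈ assPts F} := by
      have : Finite {p : PrimeSpectrum Γ(F, A) | p.asIdeal ∈ associatedPrimes Γ(F, A) Γ(F, A)} := h3
      refine Finite.of_injective (β := {p : PrimeSpectrum Γ(F, A) |
        p.asIdeal ∈ associatedPrimes Γ(F, A) Γ(F, A)})
        (fun w => ⟨hA.primeIdealOf w.1, (isAssociatedPrime_stalk_iff hA w.1.2).1 w.2⟩) ?_
      intro v w h
      have h5 : hA.primeIdealOf v.1 = hA.primeIdealOf w.1 := congrArg Subtype.val h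
      have h6 : hA.isoSpec.hom v.1 = hA.isoSpec.hom w.1 := h5
      exact Subtype.ext ((Scheme.homeoOfIso hA.isoSpec).injective h6)
    exact Set.finite_range _
  refine h2.subset ?_
  rintro w ⟨hw, hwA⟩
  exact ⟨⟨⟨w, hwA⟩, hw⟩, rfl⟩

theorem finite_assPts [IsNoetherian F] : (assPts F).Finite := by
  obtain ⟨t, ht⟩ := (isCompact_univ (X := F)).elim_finite_subcover (fun A : F.affineOpens => ((A.1 : F.Opens) : Set F))
    (fun A => A.1.isOpen) (fun x _ => by
      obtain ⟨_, ⟨V, hV, rfl⟩, hxV, -⟩ :=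
        F.isBasis_affineOpens.exists_subset_of_mem_open (Set.mem_univ x) isOpen_univ
      exact Set.mem_iUnion.mpr ⟨⟨V, hV⟩, hxV⟩)
  refine (Set.Finite.biUnion t.finite_toSet fun A _ => finite_inter A.2).subset ?_
  intro w hw
  obtain ⟨A, hAt, hwA⟩ := Set.mem_iUnion₂.mp (ht (Set.mem_univ w))
  exact Set.mem_iUnion₂.mpr ⟨A, hAt, hw, hwA⟩

theorem nonempty_assPts [IsLocallyNoetherian F] [Nonempty F] : (assPts F).Nonempty := by
  obtain ⟨x⟩ := (inferInstance : Nonempty F)
  obtain ⟨_, ⟨A, hA, rfl⟩, hxA, -⟩ :=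
    F.isBasis_affineOpens.exists_subset_of_mem_open (Set.mem_univ x) isOpen_univ
  replace hA : IsAffineOpen A := hA
  have hN : IsNoetherianRing Γ(F, A) := IsLocallyNoetherian.component_noetherian ⟨A, hA⟩
  have : Nonempty A := ⟨⟨x, hxA⟩⟩
  have hnt : Nontrivial Γ(F, A) := Scheme.component_nontrivial F A
  obtain ⟨p, hp⟩ := associatedPrimes.nonempty Γ(F, A) Γ(F, A)
  have : p.IsPrime := hp.isPrime
  obtain ⟨w, hw, hwp⟩ := exists_primeIdealOf_eq hA p
  exact ⟨w, (isAssociatedPrime_stalk_iff hA hw).2 (hwp ▸ hp)⟩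

/-- A function on an affine open which is a unit at all the associated points of the open is a
nonzerodivisor. -/
theorem mem_nonZeroDivisors [IsLocallyNoetherian F] {A : F.Opens} (hA : IsAffineOpen A) (c : Γ(F, A))
    (hc : ∀ w ∈ assPts F, w ∈ A → w ∈ F.basicOpen c) : c ∈ nonZeroDivisors Γ(F, A) := by
  have hN : IsNoetherianRing Γ(F, A) := IsLocallyNoetherian.component_noetherian ⟨A, hA⟩
  by_contra h
  have h1 : c ∈ ⋃ p ∈ associatedPrimes Γ(F, A) Γ(F, A), (p : Set Γ(F, A)) := by
    rw [biUnion_associatedPrimes_eq_compl_nonZeroDivisors]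
    exact h
  obtain ⟨p, hp, hcp⟩ := Set.mem_iUnion₂.mp h1
  have : p.IsPrime := hp.isPrime
  obtain ⟨w, hw, hwp⟩ := exists_primeIdealOf_eq hA p
  have h2 : w ∈ assPts F := (isAssociatedPrime_stalk_iff hA hw).2 (hwp ▸ hp)
  have h3 := hc w h2 hw
  rw [Scheme.mem_basicOpen _ _ _ hw] at h3
  have h4 : c ∈ (hA.primeIdealOf ⟨w, hw⟩).asIdeal := hwp ▸ hcp
  rw [primeIdealOf_eq_comap] at h4
  exact (IsLocalRing.mem_maximalIdeal _).mp h4 h3

theorem germ_mem_nonZeroDivisors [IsLocallyNoetherian F] {A : F.Opens} (hA : IsAffineOpen A) (c : Γ(F, A))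
    (hc : ∀ w ∈ assPts F, w ∈ A → w ∈ F.basicOpen c) (w : F) (hw : w ∈ A) :
    F.presheaf.germ A w hw c ∈ nonZeroDivisors (F.presheaf.stalk w) := by
  have h1 := mem_nonZeroDivisors hA c hc
  let : Algebra Γ(F, A) (F.presheaf.stalk w) :=
    TopCat.Presheaf.algebra_section_stalk F.presheaf ⟨w, hw⟩
  have h2 := hA.isLocalization_stalk ⟨w, hw⟩
  have h3 : Module.Flat Γ(F, A) (F.presheaf.stalk w) :=
    IsLocalization.flat _ (hA.primeIdealOf ⟨w, hw⟩).asIdeal.primeCompl
  exact IsLocalization.map_nonZeroDivisors_le (hA.primeIdealOf ⟨w, hw⟩).asIdeal.primeCompl _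
    ⟨c, h1, rfl⟩

end Groth.Agent.GrpQ.H768.AssPts
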