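import Groth.Agent.GrpQ.H768.Step
import Groth.Agent.Grpsch.Points

/-!
# Quasi-sections of a proper flat groupoid through a given point

`exists_finite_flat`: for a proper flat groupoid with affine `(t, s)` on a Noetherian scheme `U` with an ample
invertible module, and `x` in `U`, there is a closed subscheme `Z` of `U` such that `R ×_{t,U} Z ⟶ U` has finite
non-empty fibre at `x` and is flat at all points over `x`.
-/

set_option autoImplicit false
universe u
open CategoryTheory CategoryTheory.Limits AlgebraicGeometry TopologicalSpace Opposite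
open Groth.Agent.Sga3C.FlatPt Groth.Agent.GrpQ.H768.Step

namespace Groth.Agent.GrpQ.H768.FinFlat

variable {S : Scheme.{u}} (G : Grpd.GroupoidScheme S)

theorem exists_finite_flat [IsAffine S] [IsSeparated G.pU] [IsAffineHom G.j] [Flat G.s]
    [IsProper G.s] [IsNoetherian G.U] {L : G.U.Modules} (hL : CohB1.IsAmple L) (x : G.U) :
    ∃ (Z : Scheme.{u}) (ζ : Z ⟶ G.U), IsClosedImmersion ζ ∧
      (∀ v, act G ζ v = x → IsFlatAt (act G ζ) v) ∧ (act G ζ ⁻¹' {x}).Nonempty ∧
      (act G ζ ⁻¹' {x}).Finite := by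
  have key : ∀ (C : Closeds G.U) (Z : Scheme.{u}) (ζ : Z ⟶ G.U), IsClosedImmersion ζ →
      Set.range ζ = C → (∀ v, act G ζ v = x → IsFlatAt (act G ζ) v) → (act G ζ ⁻¹' {x}).Nonempty →
      ∃ (Z : Scheme.{u}) (ζ : Z ⟶ G.U), IsClosedImmersion ζ ∧
      (∀ v, act G ζ v = x → IsFlatAt (act G ζ) v) ∧ (act G ζ ⁻¹' {x}).Nonempty ∧
      (act G ζ ⁻¹' {x}).Finite := by
    intro C
    induction C using WellFoundedLT.induction with
    | ind C ih =>
      intro Z ζ hζ hC hflat hne
      by_cases hfin : (act G ζ ⁻¹' {x}).Finite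
      · exact ⟨Z, ζ, hζ, hflat, hne, hfin⟩
      · obtain ⟨Z', ζ', hζ', hflat', hne', hlt⟩ := exists_step G ζ x hL hflat hfin
        refine ih ⟨Set.range ζ', ζ'.isClosedEmbedding.isClosed_range⟩ ?_ Z' ζ' hζ' rfl hflat' hne'
        rw [hC] at hlt
        exact hlt
  refine key ⊤ G.U (𝟙 _) inferInstance ?_ ?_ ?_
  · simp
  · intro v _
    exact isFlatAt_of_flat _ v
  · refine ⟨pullback.lift (f := G.t) (g := 𝟙 G.U) G.e (𝟙 _) (by rw [G.e_t, Category.comp_id]) x, ?_⟩
    change (act G (𝟙 G.U)) _ = x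
    rw [← Scheme.Hom.comp_apply, act, pullback.lift_fst_assoc, G.e_s]
    rfl

end Groth.Agent.GrpQ.H768.FinFlat
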