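import Groth.Agent.Sga3C.FlatPt
import Groth.Agent.Sga3C.QFlatOpen
import Groth.Agent.Sga3C.QuotQFAt
import Mathlib.AlgebraicGeometry.ZariskisMainTheorem
import Mathlib.AlgebraicGeometry.Morphisms.UniversallyOpen

/-!
# The locus of the base where a proper morphism is finite, flat and surjective
-/

set_option autoImplicit false
universe u
open CategoryTheory CategoryTheory.Limits AlgebraicGeometry TopologicalSpace
open Groth.Agent.Sga3C.FlatPt

namespace Groth.Agent.GrpQ.H768.GoodLocus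

variable {V U R P : Scheme.{u}}

/-- `f` is quasi-finite and flat at the points over `x`, and there are such points. -/
structure Good (f : V ⟶ U) (x : U) : Prop where
  qf : ∀ v, f v = x → f.QuasiFiniteAt v
  flat : ∀ v, f v = x → IsFlatAt f v
  ne : ∃ v, f v = x

/-- `Good` is compatible with flat base change. -/
theorem good_iff_of_isPullback {p : P ⟶ V} {f' : P ⟶ R} {f : V ⟶ U} {t : R ⟶ U} (H : IsPullback p f' f t)
    [Flat t] [LocallyOfFiniteType f] (ρ : R) : Good f' ρ ↔ Good f (t ρ) := by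
  have hp : Flat p := MorphismProperty.of_isPullback H.flip inferInstance
  constructor
  · rintro ⟨h1, h2, h3⟩
    refine ⟨fun v hv => ?_, fun v hv => ?_, ?_⟩
    · obtain ⟨z, rfl, hz⟩ := Scheme.exists_preimage_of_isPullback H v ρ hv
      exact Groth.Agent.Sga3C.QuotQFAt.quasiFiniteAt_of_isPullback_descent H z (h1 z hz)
    · obtain ⟨z, rfl, hz⟩ := Scheme.exists_preimage_of_isPullback H v ρ hv
      have h4 : IsFlatAt (f' ≫ t) z := (h2 z hz).comp (isFlatAt_of_flat t _)
      rw [← H.w] at h4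
      exact IsFlatAt.of_comp (isFlatAt_of_flat p z) h4
    · obtain ⟨z, hz⟩ := h3
      refine ⟨p z, ?_⟩
      rw [← Scheme.Hom.comp_apply, H.w, Scheme.Hom.comp_apply, hz]
  · rintro ⟨h1, h2, h3⟩
    have hz' : ∀ z, f' z = ρ → f (p z) = t ρ := by
      intro z hz
      rw [← Scheme.Hom.comp_apply, H.w, Scheme.Hom.comp_apply, hz]
    refine ⟨fun z hz => ?_, fun z hz => ?_, ?_⟩
    · exact Groth.Agent.Sga3C.QuotQFAt.quasiFiniteAt_of_isPullback H z (h1 _ (hz' z hz))
    · exact IsFlatAt.of_isPullback H z (h2 _ (hz' z hz))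
    · obtain ⟨v, hv⟩ := h3
      obtain ⟨z, -, hz⟩ := Scheme.exists_preimage_of_isPullback H v ρ hv
      exact ⟨z, hz⟩

section proper

variable (f : V ⟶ U) [IsProper f] [IsLocallyNoetherian U]

/-- the open of points over which `f` is quasi-finite and flat -/
def qfOpen : U.Opens :=
  ⟨(f '' ({v | f.QuasiFiniteAt v}ᶜ ∪ {v | IsFlatAt f v}ᶜ))ᶜ, by
    refine (f.isClosedMap _ ?_).isOpen_compl
    refine (Scheme.Hom.isOpen_quasiFiniteAt f).isClosed_compl.union (IsOpen.isClosed_compl ?_)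
    have := Groth.Agent.Sga3C.QFlatOpen.isOpen_flatLocus f
    convert this using 1
    ext v
    exact isFlatAt_iff_stalkMap f v⟩

theorem mem_qfOpen (x : U) : x ∈ qfOpen f ↔ ∀ v, f v = x → f.QuasiFiniteAt v ∧ IsFlatAt f v := by
  change x ∈ (f '' ({v | f.QuasiFiniteAt v}ᶜ ∪ {v | IsFlatAt f v}ᶜ))ᶜ ↔ _
  simp only [Set.mem_compl_iff, Set.mem_image, Set.mem_union, Set.mem_ofPred_eq, not_exists, not_and]
  constructor
  · intro h v hv
    by_contra hcon
    rw [not_and_or] at hcon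
    rcases hcon with h1 | h1
    · exact h v (Or.inl h1) hv
    · exact h v (Or.inr h1) hv
  · rintro h v (h1 | h1) hv
    · exact h1 (h v hv).1
    · exact h1 (h v hv).2

instance flat_restrict_qfOpen : Flat (f ∣_ qfOpen f) := by
  refine flat_of_forall_isFlatAt _ fun v => ?_
  have h1 : IsFlatAt f ((f ⁻¹ᵁ qfOpen f).ι v) := ((mem_qfOpen f _).mp v.2 _ rfl).2
  exact IsFlatAt.of_isPullback (isPullback_morphismRestrict f (qfOpen f)).flip v h1

instance isFinite_restrict_qfOpen : IsFinite (f ∣_ qfOpen f) := by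
  have h1 : LocallyQuasiFinite (f ∣_ qfOpen f) := by
    rw [← Scheme.Hom.quasiFiniteLocus_eq_top_iff]
    refine top_le_iff.mp fun v _ => ?_
    have h1 : f.QuasiFiniteAt ((f ⁻¹ᵁ qfOpen f).ι v) := ((mem_qfOpen f _).mp v.2 _ rfl).1
    exact Groth.Agent.Sga3C.QuotQFAt.quasiFiniteAt_of_isPullback (isPullback_morphismRestrict f (qfOpen f)).flip v h1
  exact IsFinite.of_isProper_of_locallyQuasiFinite _

/-- the open locus of good points -/
def goodOpen : U.Opens :=
  ⟨(qfOpen f).ι '' Set.range (f ∣_ qfOpen f),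
    (qfOpen f).ι.isOpenEmbedding.isOpenMap _ (Scheme.Hom.isOpenMap _).isOpen_range⟩

theorem mem_goodOpen (x : U) : x ∈ goodOpen f ↔ Good f x := by
  constructor
  · rintro ⟨_, ⟨v, rfl⟩, rfl⟩
    have h1 : (qfOpen f).ι ((f ∣_ qfOpen f) v) = f ((f ⁻¹ᵁ qfOpen f).ι v) := by
      rw [← Scheme.Hom.comp_apply, morphismRestrict_ι, Scheme.Hom.comp_apply]
    have h2 : (qfOpen f).ι ((f ∣_ qfOpen f) v) ∈ qfOpen f := ((f ∣_ qfOpen f) v).2
    exact ⟨fun w hw => ((mem_qfOpen f _).mp h2 w hw).1, fun w hw => ((mem_qfOpen f _).mp h2 w hw).2,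
      ⟨_, h1.symm⟩⟩
  · rintro ⟨h1, h2, v, rfl⟩
    have h3 : f v ∈ qfOpen f := (mem_qfOpen f _).mpr fun w hw => ⟨h1 w hw, h2 w hw⟩
    refine ⟨(f ∣_ qfOpen f) ⟨v, h3⟩, ⟨_, rfl⟩, ?_⟩
    rw [← Scheme.Hom.comp_apply, morphismRestrict_ι, Scheme.Hom.comp_apply]
    rfl

theorem goodOpen_le_qfOpen : goodOpen f ≤ qfOpen f := by
  rintro _ ⟨y, -, rfl⟩
  exact y.2

instance flat_restrict_goodOpen : Flat (f ∣_ goodOpen f) := by
  refine flat_of_forall_isFlatAt _ fun v => ?_
  have h1 : IsFlatAt f ((f ⁻¹ᵁ goodOpen f).ι v) := ((mem_goodOpen f _).mp v.2).flat _ rfl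
  exact IsFlatAt.of_isPullback (isPullback_morphismRestrict f (goodOpen f)).flip v h1

instance isFinite_restrict_goodOpen : IsFinite (f ∣_ goodOpen f) := by
  have h1 : LocallyQuasiFinite (f ∣_ goodOpen f) := by
    rw [← Scheme.Hom.quasiFiniteLocus_eq_top_iff]
    refine top_le_iff.mp fun v _ => ?_
    have h1 : f.QuasiFiniteAt ((f ⁻¹ᵁ goodOpen f).ι v) := ((mem_goodOpen f _).mp v.2).qf _ rfl
    exact Groth.Agent.Sga3C.QuotQFAt.quasiFiniteAt_of_isPullback (isPullback_morphismRestrict f (goodOpen f)).flip v h1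
  exact IsFinite.of_isProper_of_locallyQuasiFinite _

instance surjective_restrict_goodOpen : Surjective (f ∣_ goodOpen f) := by
  refine ⟨fun x => ?_⟩
  obtain ⟨v, hv⟩ := ((mem_goodOpen f _).mp x.2).ne
  have h1 : v ∈ f ⁻¹ᵁ goodOpen f := by
    change f v ∈ goodOpen f
    rw [hv]; exact x.2
  refine ⟨⟨v, h1⟩, Subtype.ext ?_⟩
  have h2 : (goodOpen f).ι ((f ∣_ goodOpen f) ⟨v, h1⟩) = f v := by
    rw [← Scheme.Hom.comp_apply, morphismRestrict_ι, Scheme.Hom.comp_apply]
    rfl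
  exact h2.trans hv

end proper

/-- A point with finite fibre is a point where all the points of the fibre are quasi-finite. -/
theorem quasiFiniteAt_of_finite (f : V ⟶ U) [LocallyOfFiniteType f] (x : U) (h : (f ⁻¹' {x}).Finite) (v : V)
    (hv : f v = x) : f.QuasiFiniteAt v := by
  subst hv
  have : Finite (f.fiber (f v)) := (f.fiberHomeo (f v)).finite_iff.mpr h
  exact Scheme.Hom.quasiFiniteAt_iff_isOpen_singleton_asFiber.mpr (isOpen_discrete _)

end Groth.Agent.GrpQ.H768.GoodLocus
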