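import Groth.Agent.Divis.AmpleFin
import Groth.Agent.Divis.RegStalk
import Groth.Agent.Pi1C.ZeroScheme
import Groth.Agent.Flat2D.PbStalk

/-!
# Hypersurface sections avoiding a finite set of points

`exists_hyper`: on a scheme with an ample invertible module, for every finite set of points `T` there are an
affine open `W` containing `T` and a locally principal closed subscheme `D` with support the complement of `W`.
-/

set_option autoImplicit false
universe u
open CategoryTheory CategoryTheory.Limits AlgebraicGeometry TopologicalSpace Opposite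
open Groth.Agent.Fdesc.LocGen Groth.Agent.Flat2D.PbStalk

namespace Groth.Agent.GrpQ.H768.Hyper

variable {X : Scheme.{u}}

/-- A locally principal closed subscheme `D` with complement `W`. -/
structure IsHyper (D : X.IdealSheafData) (W : X.Opens) : Prop where
  loc : ∀ x : X, ∃ (V : X.affineOpens) (c : Γ(X, V.1)), x ∈ V.1 ∧ D.ideal V = Ideal.span {c} ∧
    ∀ z ∈ V.1, (z ∈ X.basicOpen c ↔ z ∈ W)

theorem IsHyper.mem_support_iff {D : X.IdealSheafData} {W : X.Opens} (h : IsHyper D W) (x : X) :
    x ∈ D.support ↔ x ∉ W := by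
  obtain ⟨V, c, hx, hD, hV⟩ := h.loc x
  rw [← hV x hx, Scheme.IdealSheafData.mem_support_iff_of_mem (U := V) hx, hD, Scheme.zeroLocus_span,
    Scheme.mem_zeroLocus_iff]
  simp

theorem ker_stalkTo {D : X.IdealSheafData} {V : X.affineOpens} {c : Γ(X, V.1)}
    (hD : D.ideal V = Ideal.span {c}) (d : D.subscheme) {x : X} (hx : x ∈ V.1) (hd : D.subschemeι d = x) :
    RingHom.ker (stalkTo D.subschemeι d hd).hom = Ideal.span {X.presheaf.germ V.1 x hx c} := by
  subst hd
  rw [stalkTo_rfl, Groth.Agent.Divis.RegStalk.ker_stalkMap D.subschemeι d V hx,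
    Scheme.IdealSheafData.ker_subschemeι, hD, Ideal.map_span, Set.image_singleton]

/-- On a scheme with an ample invertible module, every finite set of points in an open `O` is contained in an affine open
`W ≤ O` whose complement is the support of a locally principal closed subscheme. -/
theorem exists_hyper {L : X.Modules} (hL : CohB1.IsAmple L) (T : Set X) (hT : T.Finite) (O : X.Opens)
    (hTO : T ⊆ O) :
    ∃ (D : X.IdealSheafData) (W : X.Opens), IsHyper D W ∧ IsAffineOpen W ∧ T ⊆ W ∧ W ≤ O := by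
  obtain ⟨m, t, h1, h2, h3⟩ := Groth.Agent.Divis.AmpleFin.exists_genLocus_of_finite hL T hT O hTO
  have hinv : PicF.IsInvertible (CohB1.tensorPow L (m + 1)) := isInvertible_tensorPow hL.1 _
  refine ⟨PicF2.zeroScheme _ t, CohB1.genLocus _ t, ⟨fun x => ?_⟩, h3, h1, h2⟩
  obtain ⟨V, hV, hxV, -, e, he⟩ := Groth.Agent.Pi1C.ZeroScheme.exists_affine_isGen hinv ⊤ x trivial
  obtain ⟨c, hc⟩ := he.exists_eq (sec t V)
  refine ⟨⟨V, hV⟩, c, hxV, Groth.Agent.Pi1C.ZeroScheme.ideal_eq_span t hinv ⟨V, hV⟩ he hc, fun z hz => ?_⟩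
  have h4 : CohB1.genLocus _ t ⊓ V = X.basicOpen c := genLocus_inf_eq t he hc
  change z ∈ X.basicOpen c ↔ _
  rw [← h4]
  exact ⟨fun h => h.1, fun h => ⟨h, hz⟩⟩

end Groth.Agent.GrpQ.H768.Hyper
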