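import Groth.Agent.GrpQ.H766.AffineCase

/-!
# The map `R ×_{t,U} Z ⟶ U` for the restriction of a groupoid to an invariant open
-/

set_option autoImplicit false
universe u
open CategoryTheory CategoryTheory.Limits AlgebraicGeometry
open Groth.Agent.Grpsch.Restrict

namespace Groth.Agent.GrpQ.H768.RestrictSV

variable {S : Scheme.{u}} (G : Grpd.GroupoidScheme S) {Z : Scheme.{u}} (ζ : Z ⟶ G.U)

theorem exists_isPullback (W : G.U.Opens) (hW : G.s ⁻¹ᵁ W = G.t ⁻¹ᵁ W) :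
    ∃ m : pullback (tgt G W.ι) (ζ ∣_ W) ⟶ pullback G.t ζ,
      IsPullback m (pullback.fst (tgt G W.ι) (ζ ∣_ W) ≫ src G W.ι) (pullback.fst G.t ζ ≫ G.s) W.ι := by
  have h1 := (IsPullback.of_hasPullback (tgt G W.ι) (ζ ∣_ W)).flip.paste_horiz
    (isPullback_morphismRestrict ζ W).flip
  rw [← toR_t] at h1
  obtain ⟨m, h2⟩ : ∃ m, IsPullback m (pullback.fst (tgt G W.ι) (ζ ∣_ W)) (pullback.fst G.t ζ) (toR G W.ι) :=
    ⟨_, IsPullback.of_right' h1 (IsPullback.of_hasPullback G.t ζ).flip⟩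
  exact ⟨m, h2.paste_vert (Groth.Agent.GrpQ.H766.AffineCase.isPullback_src G W hW).flip⟩

/-- `R_W ×_{t,W} Z_W ⟶ W` is the restriction of `R ×_{t,U} Z ⟶ U` over `W`. -/
theorem prop_iff (P : MorphismProperty Scheme.{u}) [P.RespectsIso] (W : G.U.Opens)
    (hW : G.s ⁻¹ᵁ W = G.t ⁻¹ᵁ W) :
    P (pullback.fst (tgt G W.ι) (ζ ∣_ W) ≫ src G W.ι) ↔ P ((pullback.fst G.t ζ ≫ G.s) ∣_ W) := by
  obtain ⟨m, h1⟩ := exists_isPullback G ζ W hW
  have h2 := (isPullback_morphismRestrict (pullback.fst G.t ζ ≫ G.s) W).flip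
  let e := h1.isoIsPullback _ _ h2
  exact P.arrow_mk_iso_iff (Arrow.isoMk e (Iso.refl _) (by
    simp only [Arrow.mk_left, Arrow.mk_right, Arrow.mk_hom, Iso.refl_hom, Category.comp_id]
    exact IsPullback.isoIsPullback_hom_snd _ _ h1 h2))

end Groth.Agent.GrpQ.H768.RestrictSV
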