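import Groth.Agent.Grpsch.Points

/-!
# Translation of `R ×_{t,U} Z ⟶ U`

For a groupoid scheme and `ζ : Z ⟶ U` let `f = s ∘ pr₁ : R ×_{t,U} Z ⟶ U`. The base changes of `f` along `s` and `t`
are isomorphic over `R`.
-/

set_option autoImplicit false
universe u
open CategoryTheory CategoryTheory.Limits AlgebraicGeometry
open Groth.Agent.Grpsch.Points

namespace Groth.Agent.GrpQ.H768.Swap

variable {S : Scheme.{u}} (G : Grpd.GroupoidScheme S) {Z : Scheme.{u}} (ζ : Z ⟶ G.U)

/-- For `f = s ∘ pr₁ : R ×_{t,U} Z ⟶ U` the base change of `f` along `t` is also a base change of `f` along `s`. -/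
theorem exists_isPullback : ∃ q : pullback (pullback.fst G.t ζ ≫ G.s) G.t ⟶ pullback G.t ζ,
    IsPullback q (pullback.snd (pullback.fst G.t ζ ≫ G.s) G.t) (pullback.fst G.t ζ ≫ G.s) G.s := by
  let f := pullback.fst G.t ζ ≫ G.s
  let p1 := pullback.fst f G.t
  let p2 := pullback.snd f G.t
  have hp : p1 ≫ pullback.fst G.t ζ ≫ G.s = p2 ≫ G.t := pullback.condition
  let e : pullback f G.t ⟶ pullback G.s G.t := pullback.lift (p1 ≫ pullback.fst G.t ζ) p2 (by
    rw [Category.assoc, hp])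
  have he1 : e ≫ pullback.fst G.s G.t = p1 ≫ pullback.fst G.t ζ := pullback.lift_fst _ _ _
  have he2 : e ≫ pullback.snd G.s G.t = p2 := pullback.lift_snd _ _ _
  have h1 : IsPullback p1 e (pullback.fst G.t ζ) (pullback.fst G.s G.t) := by
    refine IsPullback.of_bot (v₂₁ := pullback.snd G.s G.t) (v₂₂ := G.s) (h₃₁ := G.t) ?_ he1.symm
      (isPullback_fst_snd G)
    rw [he2]
    exact IsPullback.of_hasPullback f G.t
  have h2 : IsPullback (p1 ≫ pullback.snd G.t ζ) e ζ (pullback.fst G.s G.t ≫ G.t) :=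
    h1.paste_horiz (IsPullback.of_hasPullback G.t ζ).flip
  rw [← c_t] at h2
  obtain ⟨q, h3⟩ : ∃ q, IsPullback q e (pullback.fst G.t ζ) G.c :=
    ⟨_, IsPullback.of_right' h2 (IsPullback.of_hasPullback G.t ζ).flip⟩
  have h4 := h3.paste_vert (isPullback_c_snd G)
  rw [he2] at h4
  exact ⟨q, h4⟩

end Groth.Agent.GrpQ.H768.Swap
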