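import Groth.Agent.GrpQ.H768.FinFlat
import Groth.Agent.GrpQ.H768.Swap
import Groth.Agent.GrpQ.H768.GoodLocus
import Groth.Agent.GrpQ.H768.RestrictSV
import Groth.Prelude.Def_Mor2

/-!
# Local quasi-sections of a groupoid

* `LocQSAt G x`: there is an invariant open `W ∋ x` such that the restricted groupoid has a finite locally free
  surjective quasi-section satisfying the hypotheses of S4087.
* `locQSAt_of_affine`: for a proper flat groupoid over an affine base on a Noetherian scheme with an ample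
  invertible module, with affine `(t, s)`.
-/

set_option autoImplicit false
universe u
open CategoryTheory CategoryTheory.Limits AlgebraicGeometry TopologicalSpace
open Groth.Agent.Sga3C.FlatPt Groth.Agent.GrpQ.H768.Step Groth.Agent.GrpQ.H768.GoodLocus

namespace Groth.Agent.GrpQ.H768.LocQS

variable {S : Scheme.{u}} (G : Grpd.GroupoidScheme S)

/-- local quasi-section at `x` -/
def LocQSAt (x : G.U) : Prop :=
  ∃ (W : G.U.Opens) (_ : G.s ⁻¹ᵁ W = G.t ⁻¹ᵁ W) (Z : Scheme.{u}) (u : Z ⟶ (W : Scheme.{u})),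
    x ∈ W ∧ IsImmersion u ∧
    Mor2.IsFinLocFree (pullback.fst (Grpsch.Restrict.restrict G W.ι).t u ≫ (Grpsch.Restrict.restrict G W.ι).s) ∧
    Surjective (pullback.fst (Grpsch.Restrict.restrict G W.ι).t u ≫ (Grpsch.Restrict.restrict G W.ι).s) ∧
    ∀ E : Set Z, (∀ x ∈ E, ∀ y ∈ E, ∃ r : (Grpsch.Restrict.restrict G W.ι).R,
        (Grpsch.Restrict.restrict G W.ι).t.base r = u.base x ∧
          (Grpsch.Restrict.restrict G W.ι).s.base r = u.base y) →
      ∃ A : Z.Opens, IsAffineOpen A ∧ E ⊆ (A : Set Z)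

/-- a set of pairwise equivalent points of a quasi-section is finite -/
theorem finite_of_equiv {Z : Scheme.{u}} (u : Z ⟶ G.U) [IsFinite (pullback.fst G.t u ≫ G.s)] (E : Set Z)
    (hE : ∀ x ∈ E, ∀ y ∈ E, ∃ r : G.R, G.t.base r = u.base x ∧ G.s.base r = u.base y) : E.Finite := by
  rcases E.eq_empty_or_nonempty with rfl | ⟨y, hy⟩
  · exact Set.finite_empty
  · have h1 : ((pullback.fst G.t u ≫ G.s) ⁻¹' {u y}).Finite :=
      Scheme.Hom.finite_preimage_singleton _ _
    refine (h1.image (pullback.snd G.t u)).subset fun x hx => ?_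
    obtain ⟨r, hr1, hr2⟩ := hE x hx y hy
    obtain ⟨v, hv1, hv2⟩ := Scheme.Pullback.exists_preimage_pullback (f := G.t) (g := u) r x hr1
    refine ⟨v, ?_, hv2⟩
    change (pullback.fst G.t u ≫ G.s) v = u y
    rw [Scheme.Hom.comp_apply, hv1]
    exact hr2

/-- the locus where `R ×_{t,U} Z ⟶ U` is finite flat surjective is invariant. -/
theorem preimage_goodOpen {Z : Scheme.{u}} (ζ : Z ⟶ G.U) [Flat G.s] [IsProper (act G ζ)]
    [IsLocallyNoetherian G.U] : G.s ⁻¹ᵁ goodOpen (act G ζ) = G.t ⁻¹ᵁ goodOpen (act G ζ) := by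
  have ht : Flat G.t := (Grpsch.Points.s_iff_t G @Flat).mp inferInstance
  obtain ⟨q, hq⟩ := Swap.exists_isPullback G ζ
  ext ρ
  change G.s ρ ∈ goodOpen (act G ζ) ↔ G.t ρ ∈ goodOpen (act G ζ)
  rw [mem_goodOpen, mem_goodOpen, ← good_iff_of_isPullback hq ρ,
    ← good_iff_of_isPullback (IsPullback.of_hasPullback (act G ζ) G.t) ρ]

theorem locQSAt_of_affine [IsAffine S] [IsSeparated G.pU] [IsAffineHom G.j] [Flat G.s]
    [IsProper G.s] [IsNoetherian G.U] {L : G.U.Modules} (hL : CohB1.IsAmple L) (x : G.U) : LocQSAt G x := by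
  obtain ⟨Z, ζ, hζ, hflat, hne, hfin⟩ := FinFlat.exists_finite_flat G hL x
  have hW := preimage_goodOpen G ζ
  set W := goodOpen (act G ζ) with hWdef
  have hxW : x ∈ W := (mem_goodOpen _ _).mpr ⟨quasiFiniteAt_of_finite _ x hfin, hflat, hne⟩
  have hfin' : IsFinite (pullback.fst (Grpsch.Restrict.restrict G W.ι).t (ζ ∣_ W) ≫
      (Grpsch.Restrict.restrict G W.ι).s) :=
    (RestrictSV.prop_iff G ζ @IsFinite W hW).mpr (isFinite_restrict_goodOpen (act G ζ))
  have hlfp : LocallyOfFinitePresentation (act G ζ ∣_ W) := by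
    have : LocallyOfFinitePresentation (act G ζ) := inferInstance
    infer_instance
  refine ⟨W, hW, _, ζ ∣_ W, hxW, inferInstance, ⟨hfin', ?_, ?_⟩, ?_, ?_⟩
  · exact (RestrictSV.prop_iff G ζ @Flat W hW).mpr (flat_restrict_goodOpen (act G ζ))
  · exact (RestrictSV.prop_iff G ζ @LocallyOfFinitePresentation W hW).mpr hlfp
  · exact (RestrictSV.prop_iff G ζ @Surjective W hW).mpr (surjective_restrict_goodOpen (act G ζ))
  · intro E hE
    have hEfin : E.Finite := finite_of_equiv (Grpsch.Restrict.restrict G W.ι) (ζ ∣_ W) E hE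
    obtain ⟨D, A, -, hA, hEA, hAW⟩ := Hyper.exists_hyper hL ((fun z => W.ι ((ζ ∣_ W) z)) '' E)
      (hEfin.image _) W (by rintro _ ⟨z, -, rfl⟩; exact ((ζ ∣_ W) z).2)
    refine ⟨(ζ ∣_ W) ⁻¹ᵁ (W.ι ⁻¹ᵁ A), ?_, fun z hz => hEA ⟨z, hz, rfl⟩⟩
    refine IsAffineOpen.preimage ?_ (ζ ∣_ W)
    exact hA.preimage_of_isOpenImmersion W.ι (by rw [Scheme.Opens.opensRange_ι]; exact hAW)

end Groth.Agent.GrpQ.H768.LocQS
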