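import Groth.Agent.GrpQ.H766.AffineCase

/-!
# `R ×_{t,U} Z ⟶ U` for a subscheme `Z` of an invariant open `O`
-/

set_option autoImplicit false
universe u
open CategoryTheory CategoryTheory.Limits AlgebraicGeometry
open Groth.Agent.Grpsch.Restrict

namespace Groth.Agent.GrpQ.H768.OpenSV

theorem of_comp_mono {P X Y W Z : Scheme.{u}} {a : P ⟶ X} {b : P ⟶ Y} {f : X ⟶ W} {g : Y ⟶ W}
    (h : IsPullback a b f g) (i : W ⟶ Z) [Mono i] : IsPullback a b (f ≫ i) (g ≫ i) := by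
  refine ⟨⟨by rw [← Category.assoc, h.w, Category.assoc]⟩, ⟨?_⟩⟩
  exact PullbackCone.isLimitOfCompMono f g i h.cone h.isLimit

variable {S : Scheme.{u}} (G : Grpd.GroupoidScheme S)

theorem exists_isPullback (O : G.U.Opens) (hO : G.s ⁻¹ᵁ O = G.t ⁻¹ᵁ O) {Z : Scheme.{u}}
    (ζ : Z ⟶ (O : Scheme.{u})) :
    ∃ m : pullback (tgt G O.ι) ζ ⟶ pullback G.t (ζ ≫ O.ι),
      IsPullback m (pullback.fst (tgt G O.ι) ζ ≫ src G O.ι) (pullback.fst G.t (ζ ≫ O.ι) ≫ G.s) O.ι := by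
  have h1 := of_comp_mono (IsPullback.of_hasPullback (tgt G O.ι) ζ).flip O.ι
  rw [← toR_t] at h1
  obtain ⟨m, h2⟩ : ∃ m, IsPullback m (pullback.fst (tgt G O.ι) ζ) (pullback.fst G.t (ζ ≫ O.ι)) (toR G O.ι) :=
    ⟨_, IsPullback.of_right' h1 (IsPullback.of_hasPullback G.t (ζ ≫ O.ι)).flip⟩
  exact ⟨m, h2.paste_vert (Groth.Agent.GrpQ.H766.AffineCase.isPullback_src G O hO).flip⟩

/-- invariant opens of an invariant open -/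
theorem preimage_image (O : G.U.Opens) (hO : G.s ⁻¹ᵁ O = G.t ⁻¹ᵁ O) (W0 : (O : Scheme.{u}).Opens)
    (hW0 : src G O.ι ⁻¹ᵁ W0 = tgt G O.ι ⁻¹ᵁ W0) :
    G.s ⁻¹ᵁ (O.ι ''ᵁ W0) = G.t ⁻¹ᵁ (O.ι ''ᵁ W0) := by
  have hs : ∀ ρ' : arrows G O.ι, G.s (toR G O.ι ρ') = O.ι (src G O.ι ρ') := fun ρ' => by
    rw [← Scheme.Hom.comp_apply, toR_s, Scheme.Hom.comp_apply]
  have ht : ∀ ρ' : arrows G O.ι, G.t (toR G O.ι ρ') = O.ι (tgt G O.ι ρ') := fun ρ' => by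
    rw [← Scheme.Hom.comp_apply, toR_t, Scheme.Hom.comp_apply]
  have hW0' : ∀ ρ' : arrows G O.ι, src G O.ι ρ' ∈ W0 ↔ tgt G O.ι ρ' ∈ W0 := fun ρ' => by
    change ρ' ∈ src G O.ι ⁻¹ᵁ W0 ↔ ρ' ∈ tgt G O.ι ⁻¹ᵁ W0
    rw [hW0]
  have hinj : Function.Injective O.ι := O.ι.isOpenEmbedding.injective
  have hmem : ∀ y : (O : Scheme.{u}), O.ι y ∈ O.ι ''ᵁ W0 ↔ y ∈ W0 := fun y =>
    ⟨fun ⟨z, hz, hzy⟩ => hinj hzy ▸ hz, fun h => ⟨y, h, rfl⟩⟩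
  have hO' : ∀ ρ : G.R, G.s ρ ∈ O → ∃ ρ', toR G O.ι ρ' = ρ := fun ρ hρ => by
    have h1 : ρ ∈ (toR G O.ι).opensRange := by
      rw [Groth.Agent.GrpQ.H766.AffineCase.opensRange_toR G O hO]; exact hρ
    exact h1
  have hle : ∀ y : G.U, y ∈ O.ι ''ᵁ W0 → y ∈ O := by
    rintro _ ⟨y, -, rfl⟩; exact y.2
  ext ρ
  change G.s ρ ∈ O.ι ''ᵁ W0 ↔ G.t ρ ∈ O.ι ''ᵁ W0
  constructor
  · intro h
    obtain ⟨ρ', rfl⟩ := hO' ρ (hle _ h)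
    rw [hs, hmem] at h
    rw [ht, hmem, ← hW0']
    exact h
  · intro h
    have h1 : ρ ∈ G.t ⁻¹ᵁ O := hle _ h
    rw [← hO] at h1
    obtain ⟨ρ', rfl⟩ := hO' ρ h1
    rw [ht, hmem] at h
    rw [hs, hmem, hW0']
    exact h

end Groth.Agent.GrpQ.H768.OpenSV
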