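import Mathlib.AlgebraicGeometry.Restrict
import Mathlib.AlgebraicGeometry.Morphisms.Basic

/-!
# Restriction over an open of an open
-/

set_option autoImplicit false
universe u
open CategoryTheory CategoryTheory.Limits AlgebraicGeometry

namespace Groth.Agent.GrpQ.H768.ResRes

theorem restrict_iff (P : MorphismProperty Scheme.{u}) [P.RespectsIso] {V0 V U : Scheme.{u}} {O : U.Opens}
    {m : V0 ⟶ V} {f0 : V0 ⟶ O} {f : V ⟶ U} (H : IsPullback m f0 f O.ι) (W0 : (O : Scheme.{u}).Opens) :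
    P (f ∣_ (O.ι ''ᵁ W0)) ↔ P (f0 ∣_ W0) := by
  rw [← P.arrow_mk_iso_iff (morphismRestrictRestrict f O W0)]
  have h2 := (isPullback_morphismRestrict f O).flip
  obtain ⟨e, he⟩ : ∃ e : V0 ≅ (f ⁻¹ᵁ O).toScheme, e.hom ≫ (f ∣_ O) = f0 :=
    ⟨H.isoIsPullback _ _ h2, IsPullback.isoIsPullback_hom_snd _ _ H h2⟩
  rw [← he, morphismRestrict_comp]
  have : IsIso (e.hom ∣_ (f ∣_ O) ⁻¹ᵁ W0) :=
    (MorphismProperty.isomorphisms Scheme.{u}).of_isPullback
      (isPullback_morphismRestrict e.hom ((f ∣_ O) ⁻¹ᵁ W0)).flip (by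
        simp only [MorphismProperty.isomorphisms.iff]; infer_instance)
  exact (P.cancel_left_of_respectsIso (e.hom ∣_ (f ∣_ O) ⁻¹ᵁ W0) ((f ∣_ O) ∣_ W0)).symm

end Groth.Agent.GrpQ.H768.ResRes
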