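import Groth.Agent.GrpQ.H768.LocQS
import Groth.Agent.GrpQ.H768.OpenSV
import Groth.Agent.GrpQ.H768.ResRes
import Groth.Agent.CalgB.AmpleProj
import Groth.Agent.CalgB.ProjField
import Groth.Agent.Fga.FSGeo
import Groth.Agent.Dix.ProjProper

/-!
# Local quasi-sections of a groupoid over a locally Noetherian base

`locQSAt`: under the hypotheses of S4088 every point has a local quasi-section.
-/

set_option autoImplicit false
universe u
open CategoryTheory CategoryTheory.Limits AlgebraicGeometry TopologicalSpace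
open Groth.Agent.Sga3C.FlatPt Groth.Agent.GrpQ.H768.Step Groth.Agent.GrpQ.H768.GoodLocus
open Groth.Agent.GrpQ.H768.LocQS

namespace Groth.Agent.GrpQ.H768.LocQSGen

/-- Change of the base of a groupoid scheme. -/
def changeBase {S S' : Scheme.{u}} (G : Grpd.GroupoidScheme S) (π : G.U ⟶ S') (h : G.t ≫ π = G.s ≫ π) :
    Grpd.GroupoidScheme S' where
  U := G.U
  R := G.R
  pU := π
  pR := G.s ≫ π
  s := G.s
  t := G.t
  e := G.e
  i := G.i
  c := G.c
  s_over := rfl
  t_over := h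
  comp_s := G.comp_s
  comp_t := G.comp_t
  assoc := G.assoc
  e_s := G.e_s
  e_t := G.e_t
  comp_e := G.comp_e
  e_comp := G.e_comp
  i_s := G.i_s
  i_t := G.i_t
  comp_i := G.comp_i
  i_comp := G.i_comp

variable {S : Scheme.{u}} (G : Grpd.GroupoidScheme S)

/-- quasi-section over the open `W`, in terms of `R ×_{t,U} Z ⟶ U`. -/
structure IsQS {Z : Scheme.{u}} (u : Z ⟶ G.U) (W : G.U.Opens) : Prop where
  inv : G.s ⁻¹ᵁ W = G.t ⁻¹ᵁ W
  imm : IsClosedImmersion (u ∣_ W)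
  fin : IsFinite (act G u ∣_ W)
  flat : Flat (act G u ∣_ W)
  lfp : LocallyOfFinitePresentation (act G u ∣_ W)
  surj : Surjective (act G u ∣_ W)

variable {G} in
theorem IsQS.locQSAt {Z : Scheme.{u}} {u : Z ⟶ G.U} {W : G.U.Opens} (h : IsQS G u W) (x : G.U) (hx : x ∈ W)
    (hA : ∀ E : Set G.U, E.Finite → (∀ x ∈ E, ∀ y ∈ E, G.pU x = G.pU y) → E ⊆ W →
      ∃ A : G.U.Opens, IsAffineOpen A ∧ A ≤ W ∧ E ⊆ A) : LocQSAt G x := by
  have himm := h.imm
  have hfin' : IsFinite (pullback.fst (Grpsch.Restrict.restrict G W.ι).t (u ∣_ W) ≫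
      (Grpsch.Restrict.restrict G W.ι).s) := (RestrictSV.prop_iff G u @IsFinite W h.inv).mpr h.fin
  refine ⟨W, h.inv, _, u ∣_ W, hx, inferInstance, ⟨hfin', ?_, ?_⟩, ?_, ?_⟩
  · exact (RestrictSV.prop_iff G u @Flat W h.inv).mpr h.flat
  · exact (RestrictSV.prop_iff G u @LocallyOfFinitePresentation W h.inv).mpr h.lfp
  · exact (RestrictSV.prop_iff G u @Surjective W h.inv).mpr h.surj
  · intro E hE
    have hEfin : E.Finite := finite_of_equiv (Grpsch.Restrict.restrict G W.ι) (u ∣_ W) E hE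
    obtain ⟨A, hA, hAW, hEA⟩ := hA ((fun z => W.ι ((u ∣_ W) z)) '' E)
      (hEfin.image _) (by
        rintro _ ⟨y, hy, rfl⟩ _ ⟨z, hz, rfl⟩
        obtain ⟨r, hr1, hr2⟩ := hE y hy z hz
        have h1 := congrArg (fun f => f r) (Grpsch.Restrict.restrict G W.ι).t_over
        have h2 := congrArg (fun f => f r) (Grpsch.Restrict.restrict G W.ι).s_over
        have h3 := h1.trans h2.symm
        simp only [Scheme.Hom.comp_apply] at h3
        have h4 : (Grpsch.Restrict.restrict G W.ι).t r = (u ∣_ W) y := hr1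
        have h5 : (Grpsch.Restrict.restrict G W.ι).s r = (u ∣_ W) z := hr2
        rw [h4, h5] at h3
        exact h3) (by rintro _ ⟨z, -, rfl⟩; exact ((u ∣_ W) z).2)
    refine ⟨(u ∣_ W) ⁻¹ᵁ (W.ι ⁻¹ᵁ A), ?_, fun z hz => hEA ⟨z, hz, rfl⟩⟩
    refine IsAffineOpen.preimage ?_ (u ∣_ W)
    exact hA.preimage_of_isOpenImmersion W.ι (by rw [Scheme.Opens.opensRange_ι]; exact hAW)

/-- quasi-sections of an invariant open -/
theorem isQS_of_open (O : G.U.Opens) (hO : G.s ⁻¹ᵁ O = G.t ⁻¹ᵁ O) {Z : Scheme.{u}}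
    (ζ : Z ⟶ (O : Scheme.{u})) [IsClosedImmersion ζ] (W0 : (O : Scheme.{u}).Opens)
    (hW0 : Grpsch.Restrict.src G O.ι ⁻¹ᵁ W0 = Grpsch.Restrict.tgt G O.ι ⁻¹ᵁ W0)
    (h1 : IsFinite ((pullback.fst (Grpsch.Restrict.tgt G O.ι) ζ ≫ Grpsch.Restrict.src G O.ι) ∣_ W0))
    (h2 : Flat ((pullback.fst (Grpsch.Restrict.tgt G O.ι) ζ ≫ Grpsch.Restrict.src G O.ι) ∣_ W0))
    (h3 : LocallyOfFinitePresentation
      ((pullback.fst (Grpsch.Restrict.tgt G O.ι) ζ ≫ Grpsch.Restrict.src G O.ι) ∣_ W0))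
    (h4 : Surjective ((pullback.fst (Grpsch.Restrict.tgt G O.ι) ζ ≫ Grpsch.Restrict.src G O.ι) ∣_ W0)) :
    IsQS G (ζ ≫ O.ι) (O.ι ''ᵁ W0) := by
  obtain ⟨m, hm⟩ := OpenSV.exists_isPullback G O hO ζ
  have hz : IsPullback (𝟙 Z) ζ (ζ ≫ O.ι) O.ι := by
    have := OpenSV.of_comp_mono (IsPullback.of_horiz_isIso (fst := 𝟙 Z) (snd := ζ) (f := ζ) (g := 𝟙 _) ⟨by simp⟩) O.ι
    rwa [Category.id_comp] at this
  refine ⟨OpenSV.preimage_image G O hO W0 hW0, ?_, ?_, ?_, ?_, ?_⟩
  · exact (ResRes.restrict_iff @IsClosedImmersion hz W0).mpr inferInstance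
  · exact (ResRes.restrict_iff @IsFinite hm W0).mpr h1
  · exact (ResRes.restrict_iff @Flat hm W0).mpr h2
  · exact (ResRes.restrict_iff @LocallyOfFinitePresentation hm W0).mpr h3
  · exact (ResRes.restrict_iff @Surjective hm W0).mpr h4

/-- Quasi-sections inside an invariant open carrying an invariant separated morphism to an affine scheme. -/
theorem exists_isQS_of_affine (O : G.U.Opens) (hO : G.s ⁻¹ᵁ O = G.t ⁻¹ᵁ O) {S' : Scheme.{u}} [IsAffine S']
    (π : (O : Scheme.{u}) ⟶ S')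
    (hπ : (Grpsch.Restrict.restrict G O.ι).t ≫ π = (Grpsch.Restrict.restrict G O.ι).s ≫ π) [IsSeparated π]
    (hj : IsAffineHom (changeBase (Grpsch.Restrict.restrict G O.ι) π hπ).j)
    (hN : IsNoetherian (O : Scheme.{u})) {L : (O : Scheme.{u}).Modules} (hL : CohB1.IsAmple L)
    [IsProper G.s] [Flat G.s] (x : G.U) (hx : x ∈ O) :
    ∃ (W : G.U.Opens) (Z : Scheme.{u}) (z : Z ⟶ G.U), x ∈ W ∧ IsImmersion z ∧ IsQS G z W ∧
      ∀ E : Set G.U, E.Finite → E ⊆ W → ∃ A : G.U.Opens, IsAffineOpen A ∧ A ≤ W ∧ E ⊆ A := by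
  have hsp : IsProper (Grpsch.Restrict.src G O.ι) :=
    MorphismProperty.of_isPullback (Groth.Agent.GrpQ.H766.AffineCase.isPullback_src G O hO).flip inferInstance
  have hsf : Flat (Grpsch.Restrict.src G O.ι) :=
    MorphismProperty.of_isPullback (Groth.Agent.GrpQ.H766.AffineCase.isPullback_src G O hO).flip inferInstance
  have i1 : IsProper (changeBase (Grpsch.Restrict.restrict G O.ι) π hπ).s := hsp
  have i2 : Flat (changeBase (Grpsch.Restrict.restrict G O.ι) π hπ).s := hsf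
  have i3 : IsSeparated (changeBase (Grpsch.Restrict.restrict G O.ι) π hπ).pU := ‹IsSeparated π›
  have i4 : IsNoetherian (changeBase (Grpsch.Restrict.restrict G O.ι) π hπ).U := hN
  obtain ⟨Z, ζ, hζ, hflat, hne, hfin⟩ :=
    FinFlat.exists_finite_flat (changeBase (Grpsch.Restrict.restrict G O.ι) π hπ) hL ⟨x, hx⟩
  have hW0 := preimage_goodOpen (changeBase (Grpsch.Restrict.restrict G O.ι) π hπ) ζ
  obtain ⟨W0, hW0'⟩ : ∃ W0, W0 = goodOpen (act (changeBase (Grpsch.Restrict.restrict G O.ι) π hπ) ζ) := ⟨_, rfl⟩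
  have hxW : (⟨x, hx⟩ : (O : Scheme.{u})) ∈ W0 := by
    rw [hW0']
    exact (mem_goodOpen _ _).mpr ⟨quasiFiniteAt_of_finite _ _ hfin, hflat, hne⟩
  have h1 : IsFinite (act (changeBase (Grpsch.Restrict.restrict G O.ι) π hπ) ζ ∣_ W0) := by
    rw [hW0']; infer_instance
  have h2 : Flat (act (changeBase (Grpsch.Restrict.restrict G O.ι) π hπ) ζ ∣_ W0) := by
    rw [hW0']; infer_instance
  have h3 : Surjective (act (changeBase (Grpsch.Restrict.restrict G O.ι) π hπ) ζ ∣_ W0) := by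
    rw [hW0']; infer_instance
  have h4 : LocallyOfFinitePresentation (act (changeBase (Grpsch.Restrict.restrict G O.ι) π hπ) ζ ∣_ W0) := by
    have : LocallyOfFinitePresentation (act (changeBase (Grpsch.Restrict.restrict G O.ι) π hπ) ζ) := inferInstance
    infer_instance
  rw [← hW0'] at hW0
  have hζ' : @IsClosedImmersion Z (O : Scheme.{u}) ζ := hζ
  have himm : @IsImmersion Z G.U (@CategoryStruct.comp Scheme.{u} _ Z (O : Scheme.{u}) G.U ζ O.ι) :=
    inferInstance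
  refine ⟨O.ι ''ᵁ W0, Z, @CategoryStruct.comp Scheme.{u} _ Z (O : Scheme.{u}) G.U ζ O.ι,
    ⟨⟨x, hx⟩, hxW, rfl⟩, himm, isQS_of_open G O hO ζ W0 hW0 h1 h2 h4 h3, ?_⟩
  intro E hE hEW
  obtain ⟨D, A, -, hA, hEA, hAW⟩ := Hyper.exists_hyper hL (O.ι ⁻¹' E)
    (hE.preimage (O.ι.isOpenEmbedding.injective.injOn)) W0 (by
      intro y hy
      obtain ⟨z, hz, hzy⟩ := hEW hy
      exact O.ι.isOpenEmbedding.injective hzy ▸ hz)
  refine ⟨O.ι ''ᵁ A, hA.image_of_isOpenImmersion O.ι, ?_, ?_⟩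
  · rintro _ ⟨y, hy, rfl⟩
    exact ⟨y, hAW hy, rfl⟩
  · intro y hy
    obtain ⟨z, hz, rfl⟩ := hEW hy
    exact ⟨z, hEA hy, rfl⟩

/-- **Local quasi-sections** under the hypotheses of S4088. -/
theorem exists_isQS [IsLocallyNoetherian S] [IsProper G.s] [Flat G.s] (n : ℕ)
    (e : G.U ⟶ CohB1.ProjSpaceOver n S) [IsImmersion e] (he : e ≫ CohB1.ProjSpaceOver.toBase n S = G.pU)
    [LocallyQuasiFinite G.j] (x : G.U) :
    ∃ (W : G.U.Opens) (Z : Scheme.{u}) (z : Z ⟶ G.U), x ∈ W ∧ IsImmersion z ∧ IsQS G z W ∧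
      ∀ E : Set G.U, E.Finite → E ⊆ W → ∃ A : G.U.Opens, IsAffineOpen A ∧ A ≤ W ∧ E ⊆ A := by
  have htb := Groth.Agent.Dix.ProjProper.isProper_toBase n S
  have hPn : IsLocallyNoetherian (CohB1.ProjSpaceOver n S) :=
    LocallyOfFiniteType.isLocallyNoetherian (CohB1.ProjSpaceOver.toBase n S)
  have heqc : QuasiCompact e := by
    rw [← Scheme.Hom.liftCoborder_ι e]; infer_instance
  have hsep : IsSeparated G.pU := by rw [← he]; infer_instance
  have hlft : LocallyOfFiniteType G.pU := by rw [← he]; infer_instance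
  have hqc : QuasiCompact G.pU := by rw [← he]; infer_instance
  obtain ⟨S0, hS0, hxS0, -⟩ := exists_isAffineOpen_mem_and_subset (U := (⊤ : S.Opens)) (x := G.pU x) trivial
  have hS0' : IsAffine (S0 : Scheme.{u}) := hS0
  obtain ⟨O, hOeq⟩ : ∃ O, O = G.pU ⁻¹ᵁ S0 := ⟨_, rfl⟩
  have hxO : x ∈ O := by rw [hOeq]; exact hxS0
  have hO : G.s ⁻¹ᵁ O = G.t ⁻¹ᵁ O := by
    rw [hOeq, ← Scheme.Hom.comp_preimage, ← Scheme.Hom.comp_preimage, G.s_over, G.t_over]
  -- the projection to `S0`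
  obtain ⟨π, hπ, hπsq⟩ : ∃ π : (O : Scheme.{u}) ⟶ (S0 : Scheme.{u}), π ≫ S0.ι = O.ι ≫ G.pU ∧
      IsPullback O.ι π G.pU S0.ι := by
    subst hOeq
    exact ⟨G.pU ∣_ S0, morphismRestrict_ι _ _, (isPullback_morphismRestrict G.pU S0).flip⟩
  have hπsep : IsSeparated π := MorphismProperty.of_isPullback (P := @IsSeparated) hπsq hsep
  have hπqc : QuasiCompact π := MorphismProperty.of_isPullback (P := @QuasiCompact) hπsq hqc
  have hπlft : LocallyOfFiniteType π := MorphismProperty.of_isPullback (P := @LocallyOfFiniteType) hπsq hlft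
  have hcb' : Grpsch.Restrict.tgt G O.ι ≫ π = Grpsch.Restrict.src G O.ι ≫ π := by
    rw [← cancel_mono S0.ι, Category.assoc, Category.assoc, hπ]
    exact (Grpsch.Restrict.restrict G O.ι).t_over.trans (Grpsch.Restrict.restrict G O.ι).s_over.symm
  have hcb : (Grpsch.Restrict.restrict G O.ι).t ≫ π = (Grpsch.Restrict.restrict G O.ι).s ≫ π := hcb'
  -- Noetherian
  have hS0N : IsNoetherian (S0 : Scheme.{u}) := { }
  have hOc : CompactSpace (O : Scheme.{u}) := QuasiCompact.compactSpace_of_compactSpace π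
  have hON' : IsLocallyNoetherian (O : Scheme.{u}) := LocallyOfFiniteType.isLocallyNoetherian π
  have hON : IsNoetherian (O : Scheme.{u}) := { }
  -- ample
  have hbP := Groth.Agent.Fga.FSGeo.isPullback_projMap (n := n) S0.ι
  obtain ⟨e0, he0⟩ : ∃ e0 : (O : Scheme.{u}) ⟶ CohB1.ProjSpaceOver n (S0 : Scheme.{u}),
      e0 ≫ FGA.projMap n S0.ι = O.ι ≫ e :=
    ⟨hbP.lift (O.ι ≫ e) π (by rw [Category.assoc, he, hπ]), hbP.lift_fst _ _ _⟩
  have he0imm : IsImmersion e0 := by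
    have : IsImmersion (e0 ≫ FGA.projMap n S0.ι) := by rw [he0]; infer_instance
    exact IsImmersion.of_comp e0 (FGA.projMap n S0.ι)
  have htb0 := Groth.Agent.Dix.ProjProper.isProper_toBase n (S0 : Scheme.{u})
  have hPn0 : IsLocallyNoetherian (CohB1.ProjSpaceOver n (S0 : Scheme.{u})) :=
    LocallyOfFiniteType.isLocallyNoetherian (CohB1.ProjSpaceOver.toBase n (S0 : Scheme.{u}))
  have he0qc : QuasiCompact e0 := by
    rw [← Scheme.Hom.liftCoborder_ι e0]; infer_instance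
  obtain ⟨L, hL⟩ := Groth.Agent.CalgB.AmpleProj.exists_isAmple_of_immersion
    (Groth.Agent.CalgB.ProjField.exists_isAmple_of_isAffine (S0 : Scheme.{u})) e0
  -- j is affine
  have hj : IsAffineHom (pullback.lift (Grpsch.Restrict.tgt G O.ι) (Grpsch.Restrict.src G O.ι) hcb') := by
    obtain ⟨j0, hj0⟩ : ∃ j0, j0 = pullback.lift (Grpsch.Restrict.tgt G O.ι) (Grpsch.Restrict.src G O.ι) hcb' :=
      ⟨_, rfl⟩
    have hf : j0 ≫ pullback.fst π π = Grpsch.Restrict.tgt G O.ι := by rw [hj0, pullback.lift_fst]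
    have hs : j0 ≫ pullback.snd π π = Grpsch.Restrict.src G O.ι := by rw [hj0, pullback.lift_snd]
    rw [← hj0]
    have hsp : IsProper (Grpsch.Restrict.src G O.ι) :=
      MorphismProperty.of_isPullback (Groth.Agent.GrpQ.H766.AffineCase.isPullback_src G O hO).flip inferInstance
    have h1 : IsProper (j0 ≫ pullback.snd π π) := by rw [hs]; exact hsp
    have h2 : IsProper j0 := IsProper.of_comp _ (pullback.snd π π)
    have h3 : LocallyQuasiFinite j0 := by
      obtain ⟨m, hm1, hm2⟩ : ∃ m : pullback π π ⟶ pullback G.pU G.pU,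
          m ≫ pullback.fst _ _ = pullback.fst _ _ ≫ O.ι ∧ m ≫ pullback.snd _ _ = pullback.snd _ _ ≫ O.ι :=
        ⟨pullback.lift (pullback.fst _ _ ≫ O.ι) (pullback.snd _ _ ≫ O.ι) (by
          rw [Category.assoc, Category.assoc, ← hπ, pullback.condition_assoc]),
          pullback.lift_fst _ _ _, pullback.lift_snd _ _ _⟩
      have h4 : j0 ≫ m = Grpsch.Restrict.toR G O.ι ≫ G.j := by
        apply pullback.hom_ext
        · rw [Category.assoc, hm1, reassoc_of% hf, Category.assoc, Grpd.GroupoidScheme.j,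
            pullback.lift_fst, Grpsch.Restrict.toR_t]
        · rw [Category.assoc, hm2, reassoc_of% hs, Category.assoc, Grpd.GroupoidScheme.j,
            pullback.lift_snd, Grpsch.Restrict.toR_s]
      have h5 : IsOpenImmersion (Grpsch.Restrict.toR G O.ι) :=
        MorphismProperty.of_isPullback (P := @IsOpenImmersion)
          (Groth.Agent.GrpQ.H766.AffineCase.isPullback_src G O hO) inferInstance
      have h6 : LocallyQuasiFinite (j0 ≫ m) := by
        rw [h4]; infer_instance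
      exact LocallyQuasiFinite.of_comp _ m
    have h7 : IsFinite j0 := IsFinite.of_isProper_of_locallyQuasiFinite _
    infer_instance
  exact exists_isQS_of_affine G O hO π hcb hj hON hL x hxO

end Groth.Agent.GrpQ.H768.LocQSGen
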