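import Groth.Agent.Sga3C.QStalkKer
import Groth.Agent.Sga3C.FlatPt
import Groth.Agent.FlatA.FibreCrit2
import Mathlib.AlgebraicGeometry.Noetherian

/-!
# Slicing a flat morphism at a point by an equation which is regular on the fibre
-/

set_option autoImplicit false
universe u
open CategoryTheory Limits AlgebraicGeometry
open Groth.Agent.Sga3C.FlatPt Groth.Agent.Flat2D.PbStalk

namespace Groth.Agent.GrpQ.H768.Slice

/-- ring level -/
theorem flat_of_ker_eq_span {A B C : Type u} [CommRing A] [CommRing B] [CommRing C] [IsLocalRing A]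
    [IsLocalRing B] [IsNoetherianRing B] (φ : A →+* B) [IsLocalHom φ] (hφ : φ.Flat) (π : B →+* C)
    (hπ : Function.Surjective π) (c : B) (hc : RingHom.ker π = Ideal.span {c})
    (hreg : ∀ x, c * x ∈ (IsLocalRing.maximalIdeal A).map φ → x ∈ (IsLocalRing.maximalIdeal A).map φ) :
    (π.comp φ).Flat := by
  algebraize [φ]
  have h1 : (IsLocalRing.maximalIdeal A).map (algebraMap A B) ≤ Ideal.jacobson ⊥ := by
    rw [IsLocalRing.jacobson_eq_maximalIdeal ⊥ bot_ne_top]
    exact ((IsLocalRing.local_hom_TFAE φ).out 0 2 rfl rfl).mp inferInstance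
  have h2 : Module.Flat A (B ⧸ Ideal.span {c}) :=
    (Groth.Agent.FlatA.FibreCrit2.quotient_flat_of_nonzerodivisor_in_fibre h1 c hreg).1
  let e : (B ⧸ Ideal.span {c}) ≃+* C :=
    (Ideal.quotEquivOfEq hc.symm).trans (RingHom.quotientKerEquivOfSurjective hπ)
  have h3 : π.comp φ = (e : (B ⧸ Ideal.span {c}) →+* C).comp ((Ideal.Quotient.mk (Ideal.span {c})).comp φ) := by
    ext a
    rfl
  rw [h3]
  refine RingHom.Flat.comp ?_ (RingHom.Flat.of_bijective e.bijective)
  exact RingHom.flat_algebraMap_iff.mpr h2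

variable {V V' X D Y : Scheme.{u}} {f : V ⟶ Y} {i : V' ⟶ V} {p : V' ⟶ D} {a : V ⟶ X} {j : D ⟶ X}

/-- Slicing: `V'` is the pullback to `V` of a closed subscheme `D` of `X` which at the point in question is
given by one equation `c`, regular on the fibre of `f : V ⟶ Y`; if `f` is flat at the point then so is
`V' ⟶ Y`. -/
theorem isFlatAt_of_isPullback (H : IsPullback i p a j) [IsPreimmersion j] [IsLocallyNoetherian V]
    (v' : V') (hf : IsFlatAt f (i v')) (c : X.presheaf.stalk (a (i v')))
    (hc : ∀ hw : j (p v') = a (i v'), RingHom.ker (stalkTo j (p v') hw).hom = Ideal.span {c})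
    (y : Y) (w : f.fiber y) (hw : f.fiberι y w = i v')
    (hreg : (stalkTo (f.fiberι y) w hw).hom ((a.stalkMap (i v')).hom c) ∈
      nonZeroDivisors ((f.fiber y).presheaf.stalk w)) :
    IsFlatAt (i ≫ f) v' := by
  have hi : IsPreimmersion i := MorphismProperty.of_isPullback H.flip inferInstance
  have hw' : j (p v') = a (i v') := by
    rw [← Scheme.Hom.comp_apply, ← Scheme.Hom.comp_apply, H.w]
  have hker : RingHom.ker (i.stalkMap v').hom = Ideal.span {(a.stalkMap (i v')).hom c} := by
    rw [Groth.Agent.Sga3C.QStalkKer.ker_stalkMap_of_isPullback H v' hw', hc hw', Ideal.map_span,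
      Set.image_singleton]
  have hfib : RingHom.ker (stalkTo (f.fiberι y) w hw).hom =
      (IsLocalRing.maximalIdeal (Y.presheaf.stalk (f (i v')))).map (f.stalkMap (i v')).hom := by
    have key : ∀ (v : V) (hv : f.fiberι y w = v), RingHom.ker (stalkTo (f.fiberι y) w hv).hom =
        (IsLocalRing.maximalIdeal (Y.presheaf.stalk (f v))).map (f.stalkMap v).hom := by
      intro v hv
      subst hv
      rw [stalkTo_rfl]
      exact ker_fiberι_stalkMap f y w
    exact key _ hw
  have hN : IsNoetherianRing (V.presheaf.stalk (i v')) := inferInstance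
  rw [isFlatAt_iff_stalkMap] at hf ⊢
  rw [Scheme.Hom.stalkMap_comp]
  change ((i.stalkMap v').hom.comp (f.stalkMap (i v')).hom).Flat
  refine flat_of_ker_eq_span (f.stalkMap (i v')).hom hf (i.stalkMap v').hom (i.stalkMap_surjective v')
    _ hker fun x hx => ?_
  rw [← hfib, RingHom.mem_ker] at hx ⊢
  rw [map_mul] at hx
  exact (mem_nonZeroDivisors_iff.1 hreg).1 _ hx

end Groth.Agent.GrpQ.H768.Slice
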