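import Groth.Agent.GrpQ.H768.AssPts
import Groth.Agent.GrpQ.H768.Slice
import Groth.Agent.GrpQ.H768.Hyper
import Groth.Prelude.Def_Grpd
import Mathlib.AlgebraicGeometry.Morphisms.Proper
import Mathlib.AlgebraicGeometry.Morphisms.QuasiFinite

/-!
# Slicing the orbits of a groupoid by hypersurfaces
-/

set_option autoImplicit false
universe u
open CategoryTheory CategoryTheory.Limits AlgebraicGeometry TopologicalSpace Opposite
open Groth.Agent.Flat2D.PbStalk Groth.Agent.Sga3C.FlatPt
open Groth.Agent.GrpQ.H768.AssPts Groth.Agent.GrpQ.H768.Hyper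

namespace Groth.Agent.GrpQ.H768.Step

variable {S : Scheme.{u}} (G : Grpd.GroupoidScheme S)

/-- `R ×_{t, U} Z ⟶ U`, the source map on arrows with target in `Z`. -/
noncomputable abbrev act {Z : Scheme.{u}} (ζ : Z ⟶ G.U) : pullback G.t ζ ⟶ G.U := pullback.fst G.t ζ ≫ G.s

/-- the target map `R ×_{t, U} Z ⟶ U`. -/
noncomputable abbrev tgt {Z : Scheme.{u}} (ζ : Z ⟶ G.U) : pullback G.t ζ ⟶ G.U := pullback.fst G.t ζ ≫ G.t

section affine

variable {Z : Scheme.{u}} (ζ : Z ⟶ G.U) (x : G.U)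

/-- the map from the fibre of `act` to `U` is affine. -/
theorem isAffineHom_fibre [IsAffine S] [IsSeparated G.pU] [IsAffineHom G.j] [IsAffineHom ζ] :
    IsAffineHom ((act G ζ).fiberι x ≫ tgt G ζ) := by
  have hk : IsAffineHom (G.U.fromSpecResidueField x) := IsAffineHom.of_comp _ G.pU
  have hfac : (act G ζ).fiberι x ≫ act G ζ =
    (act G ζ).fiberToSpecResidueField x ≫ G.U.fromSpecResidueField x := (act G ζ).fiber_fac x
  have hw : ((act G ζ).fiberι x ≫ tgt G ζ) ≫ G.pU =
      (act G ζ).fiberToSpecResidueField x ≫ (G.U.fromSpecResidueField x ≫ G.pU) := by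
    rw [← Category.assoc ((act G ζ).fiberToSpecResidueField x), ← hfac]
    simp only [act, tgt, Category.assoc, G.t_over, G.s_over]
  obtain ⟨ψ, hψ⟩ : ∃ ψ : (act G ζ).fiber x ⟶ pullback G.pU (G.U.fromSpecResidueField x ≫ G.pU),
      ψ = pullback.lift ((act G ζ).fiberι x ≫ tgt G ζ) ((act G ζ).fiberToSpecResidueField x) hw := ⟨_, rfl⟩
  obtain ⟨m, hm⟩ : ∃ m : pullback G.pU (G.U.fromSpecResidueField x ≫ G.pU) ⟶ pullback G.pU G.pU,
      m = pullback.lift (pullback.fst _ _) (pullback.snd _ _ ≫ G.U.fromSpecResidueField x) (by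
        rw [pullback.condition, Category.assoc]) := ⟨_, rfl⟩
  have hmsep : IsSeparated m := by
    have h1 : m ≫ pullback.fst G.pU G.pU = pullback.fst G.pU (G.U.fromSpecResidueField x ≫ G.pU) := by
      rw [hm, pullback.lift_fst]
    have h2 : IsSeparated (m ≫ pullback.fst G.pU G.pU) := by
      rw [h1]; infer_instance
    exact IsSeparated.of_comp m (pullback.fst G.pU G.pU)
  have hψm : ψ ≫ m = (act G ζ).fiberι x ≫ pullback.fst G.t ζ ≫ G.j := by
    rw [hψ, hm]
    apply pullback.hom_ext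
    · simp only [Category.assoc, pullback.lift_fst, Grpd.GroupoidScheme.j, tgt]
    · simp only [Category.assoc, pullback.lift_snd, pullback.lift_snd_assoc, Grpd.GroupoidScheme.j]
      exact hfac.symm
  have hfi : IsAffineHom ((act G ζ).fiberι x) :=
    MorphismProperty.pullback_fst (P := @IsAffineHom) _ _ hk
  have hfst : IsAffineHom (pullback.fst G.t ζ) :=
    MorphismProperty.pullback_fst (P := @IsAffineHom) _ _ inferInstance
  have h3 : IsAffineHom (ψ ≫ m) := by
    rw [hψm]; infer_instance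
  have h4 : IsAffineHom ψ := IsAffineHom.of_comp ψ m
  have h5 : (act G ζ).fiberι x ≫ tgt G ζ = ψ ≫ pullback.fst _ _ := by
    rw [hψ, pullback.lift_fst]
  rw [h5]
  have h6 : IsAffineHom (pullback.fst G.pU (G.U.fromSpecResidueField x ≫ G.pU)) :=
    MorphismProperty.pullback_fst (P := @IsAffineHom) _ _ inferInstance
  infer_instance

/-- if the image of the fibre of `act` in `U` is contained in an affine open then the fibre is finite. -/
theorem finite_of_forall_mem [IsAffine S] [IsSeparated G.pU] [IsAffineHom G.j] [IsClosedImmersion ζ]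
    [IsProper G.s] (W : G.U.Opens) (hW : IsAffineOpen W)
    (h : ∀ w : (act G ζ).fiber x, tgt G ζ ((act G ζ).fiberι x w) ∈ W) : Finite ((act G ζ).fiber x) := by
  have ha := isAffineHom_fibre G ζ x
  have h1 : ((act G ζ).fiberι x ≫ tgt G ζ) ⁻¹ᵁ W = ⊤ := by
    ext w
    simp only [Opens.coe_top, Set.mem_univ, iff_true]
    exact h w
  have h2 : IsAffineOpen (⊤ : ((act G ζ).fiber x).Opens) := h1 ▸ hW.preimage _
  have h3 : IsAffine ((act G ζ).fiber x) := by
    have : IsAffine ((⊤ : ((act G ζ).fiber x).Opens) : Scheme.{u}) := h2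
    exact IsAffine.of_isIso ((act G ζ).fiber x).topIso.inv
  have h4 : IsProper ((act G ζ).fiberToSpecResidueField x) :=
    inferInstanceAs (IsProper (pullback.snd (act G ζ) (G.U.fromSpecResidueField x)))
  have h5 : IsFinite ((act G ζ).fiberToSpecResidueField x) :=
    IsFinite.iff_isProper_and_isAffineHom.mpr ⟨h4, inferInstance⟩
  have h6 := ((act G ζ).fiberToSpecResidueField x).finite_preimage_singleton
    (IsLocalRing.closedPoint (G.U.residueField x))
  refine Set.finite_univ_iff.mp (h6.subset fun w _ => ?_)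
  exact Subsingleton.elim (α := PrimeSpectrum (G.U.residueField x)) _ _

end affine

section square

variable {Z D : Scheme.{u}} (ζ : Z ⟶ G.U) (δ : D ⟶ G.U)

/-- `R ×_{t,U} (Z ×_U D) ⟶ R ×_{t,U} Z` -/
noncomputable def inc : pullback G.t (pullback.fst ζ δ ≫ ζ) ⟶ pullback G.t ζ :=
  pullback.lift (pullback.fst _ _) (pullback.snd _ _ ≫ pullback.fst ζ δ)
    ((pullback.condition (f := G.t) (g := pullback.fst ζ δ ≫ ζ)).trans (Category.assoc _ _ _).symm)

lemma inc_fst : inc G ζ δ ≫ pullback.fst G.t ζ = pullback.fst _ _ := pullback.lift_fst _ _ _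

lemma inc_snd : inc G ζ δ ≫ pullback.snd G.t ζ = pullback.snd _ _ ≫ pullback.fst ζ δ :=
  pullback.lift_snd _ _ _

lemma inc_act : inc G ζ δ ≫ act G ζ = act G (pullback.fst ζ δ ≫ ζ) := by
  rw [act, ← Category.assoc, inc_fst]

lemma isPullback_inc : IsPullback (inc G ζ δ)
    (pullback.snd G.t (pullback.fst ζ δ ≫ ζ) ≫ pullback.snd ζ δ) (tgt G ζ) δ := by
  have h1 : IsPullback (pullback.snd G.t (pullback.fst ζ δ ≫ ζ)) (inc G ζ δ) (pullback.fst ζ δ)
      (pullback.snd G.t ζ) := by
    refine IsPullback.of_bot (h₃₁ := G.t) (v₂₂ := ζ) (v₂₁ := pullback.fst G.t ζ) ?_ (inc_snd G ζ δ).symm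
      (IsPullback.of_hasPullback G.t ζ).flip
    rw [inc_fst]
    exact (IsPullback.of_hasPullback G.t (pullback.fst ζ δ ≫ ζ)).flip
  have h2 : IsPullback (inc G ζ δ) (pullback.snd G.t (pullback.fst ζ δ ≫ ζ) ≫ pullback.snd ζ δ)
      (pullback.snd G.t ζ ≫ ζ) δ := h1.flip.paste_vert (IsPullback.of_hasPullback ζ δ)
  rwa [← pullback.condition] at h2

end square

section step

variable {Z : Scheme.{u}} (ζ : Z ⟶ G.U) (x : G.U)

/-- germs on the fibre -/
lemma stalkTo_germ (V : G.U.Opens) (c : Γ(G.U, V)) (w : (act G ζ).fiber x) (v : ↥(pullback G.t ζ))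
    (hw : (act G ζ).fiberι x w = v) (hv : tgt G ζ v ∈ V)
    (hv' : w ∈ ((act G ζ).fiberι x ≫ tgt G ζ) ⁻¹ᵁ V) :
    (stalkTo ((act G ζ).fiberι x) w hw).hom (((tgt G ζ).stalkMap v).hom (G.U.presheaf.germ V _ hv c)) =
      ((act G ζ).fiber x).presheaf.germ _ w hv' (((act G ζ).fiberι x ≫ tgt G ζ).app V c) := by
  subst hw
  rw [stalkTo_rfl]
  have h1 := Scheme.Hom.germ_stalkMap_apply (tgt G ζ) V ((act G ζ).fiberι x w) hv c
  have h2 := Scheme.Hom.germ_stalkMap_apply ((act G ζ).fiberι x) (tgt G ζ ⁻¹ᵁ V) w hv ((tgt G ζ).app V c)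
  refine (congrArg _ h1).trans (h2.trans ?_)
  rw [Scheme.Hom.comp_app]
  rfl

/-- The slicing step. -/
theorem exists_step [IsAffine S] [IsSeparated G.pU] [IsAffineHom G.j] [IsClosedImmersion ζ]
    [IsProper G.s] [IsNoetherian G.U] {L : G.U.Modules} (hL : CohB1.IsAmple L)
    (hflat : ∀ v, act G ζ v = x → IsFlatAt (act G ζ) v) (hinf : (act G ζ ⁻¹' {x}).Infinite) :
    ∃ (Z' : Scheme.{u}) (ζ' : Z' ⟶ G.U), IsClosedImmersion ζ' ∧
      (∀ v, act G ζ' v = x → IsFlatAt (act G ζ') v) ∧ (act G ζ' ⁻¹' {x}).Nonempty ∧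
      Set.range ζ' ⊂ Set.range ζ := by
  have hact : LocallyOfFiniteType (act G ζ) := inferInstance
  have hqc : QuasiCompact (act G ζ) := inferInstance
  have hft : LocallyOfFiniteType ((act G ζ).fiberToSpecResidueField x) :=
    inferInstanceAs (LocallyOfFiniteType (pullback.snd (act G ζ) (G.U.fromSpecResidueField x)))
  have hFN : IsLocallyNoetherian ((act G ζ).fiber x) :=
    LocallyOfFiniteType.isLocallyNoetherian ((act G ζ).fiberToSpecResidueField x)
  have hFN' : IsNoetherian ((act G ζ).fiber x) := { }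
  have hVN : IsLocallyNoetherian (pullback G.t ζ) := LocallyOfFiniteType.isLocallyNoetherian (act G ζ)
  have haff := isAffineHom_fibre G ζ x
  obtain ⟨a, ha⟩ : ∃ a, a = (act G ζ).fiberι x ≫ tgt G ζ := ⟨_, rfl⟩
  have hFinf : Infinite ((act G ζ).fiber x) := by
    have : Infinite (act G ζ ⁻¹' {x}) := hinf.to_subtype
    exact Infinite.of_surjective _ ((act G ζ).fiberHomeo x).surjective
  have hT : (a '' assPts ((act G ζ).fiber x)).Finite := finite_assPts.image _
  have hTne : (a '' assPts ((act G ζ).fiber x)).Nonempty := nonempty_assPts.image _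
  obtain ⟨D, W, hDW, hW, hTW, -⟩ := exists_hyper hL _ hT ⊤ (fun _ _ => trivial)
  have hsq := isPullback_inc G ζ D.subschemeι
  -- points of the fibre
  have hfib : ∀ v : ↥(pullback G.t ζ), act G ζ v = x → ∃ w : (act G ζ).fiber x, (act G ζ).fiberι x w = v := by
    intro v hv
    have h1 : v ∈ Set.range ((act G ζ).fiberι x) := by
      rw [Scheme.Hom.range_fiberι]; exact hv
    exact h1
  have hfib' : ∀ w : (act G ζ).fiber x, act G ζ ((act G ζ).fiberι x w) = x := by
    intro w
    have h1 : (act G ζ).fiberι x w ∈ Set.range ((act G ζ).fiberι x) := ⟨w, rfl⟩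
    rw [Scheme.Hom.range_fiberι] at h1
    exact h1
  refine ⟨pullback ζ D.subschemeι, pullback.fst ζ D.subschemeι ≫ ζ, inferInstance, ?_, ?_, ?_⟩
  · intro v' hv'
    rw [← inc_act] at hv' ⊢
    rw [Scheme.Hom.comp_apply] at hv'
    obtain ⟨w, hw⟩ := hfib _ hv'
    obtain ⟨V, c, hxV, hc, hcW⟩ := hDW.loc (tgt G ζ (inc G ζ D.subschemeι v'))
    have hwV : w ∈ ((act G ζ).fiberι x ≫ tgt G ζ) ⁻¹ᵁ V.1 := by
      change ((act G ζ).fiberι x ≫ tgt G ζ) w ∈ V.1
      rw [Scheme.Hom.comp_apply, hw]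
      exact hxV
    refine Slice.isFlatAt_of_isPullback hsq v' (hflat _ hv') (G.U.presheaf.germ V.1 _ hxV c)
      (fun hd => ker_stalkTo hc _ hxV hd) x w hw ?_
    rw [stalkTo_germ G ζ x V.1 c w _ hw hxV hwV]
    refine germ_mem_nonZeroDivisors (V.2.preimage _) _ (fun w' hw' hw'V => ?_) w hwV
    rw [← Scheme.preimage_basicOpen]
    have h1 : a w' ∈ W := hTW ⟨w', hw', rfl⟩
    rw [ha] at h1
    exact (hcW _ hw'V).mpr h1
  · by_contra hne
    rw [Set.not_nonempty_iff_eq_empty] at hne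
    have h1 : ∀ w : (act G ζ).fiber x, tgt G ζ ((act G ζ).fiberι x w) ∈ W := by
      intro w
      by_contra hw
      rw [← hDW.mem_support_iff] at hw
      have h2 : tgt G ζ ((act G ζ).fiberι x w) ∈ Set.range D.subschemeι := by
        rw [Scheme.IdealSheafData.range_subschemeι]
        exact hw
      obtain ⟨d, hd⟩ := h2
      obtain ⟨v', hv', -⟩ := Scheme.exists_preimage_of_isPullback hsq _ _ hd.symm
      have h3 : v' ∈ act G (pullback.fst ζ D.subschemeι ≫ ζ) ⁻¹' {x} := by
        change act G (pullback.fst ζ D.subschemeι ≫ ζ) v' = x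
        rw [← inc_act, Scheme.Hom.comp_apply, hv', hfib']
      rw [hne] at h3
      exact h3
    have h4 := finite_of_forall_mem G ζ x W hW h1
    exact not_finite ((act G ζ).fiber x)
  · refine Set.ssubset_iff_subset_ne.mpr ⟨?_, fun heq => ?_⟩
    · rintro _ ⟨z, rfl⟩
      exact ⟨pullback.fst ζ D.subschemeι z, rfl⟩
    · obtain ⟨y, hy⟩ := hTne
      have hyW : y ∈ W := hTW hy
      obtain ⟨w, -, rfl⟩ := hy
      have h1 : a w ∈ Set.range ζ := by
        rw [ha]
        refine ⟨pullback.snd G.t ζ ((act G ζ).fiberι x w), ?_⟩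
        rw [Scheme.Hom.comp_apply, tgt, ← Scheme.Hom.comp_apply, ← pullback.condition]
      rw [← heq] at h1
      obtain ⟨z, hz⟩ := h1
      have h2 : a w ∈ D.support := by
        have h3 : a w ∈ Set.range D.subschemeι := by
          refine ⟨pullback.snd ζ D.subschemeι z, ?_⟩
          rw [← hz, pullback.condition, Scheme.Hom.comp_apply]
        rw [Scheme.IdealSheafData.range_subschemeι] at h3
        exact h3
      exact (hDW.mem_support_iff _).mp h2 hyW

end step

end Groth.Agent.GrpQ.H768.Step
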